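import Groth.Agent.CycLib28.K0.PointGen
import Groth.Agent.CycLib28.K0.Twist
import Groth.Agent.VarietyLib.DegBasic
import Groth.Agent.VarietyLib.TensorExact
import Groth.Agent.CommAlg6.DimMaps
import Groth.Agent.Coherent.DevissageApps
import Groth.Agent.RefHullLib.ClassLaw
import Mathlib

/-!
# `K₀(Coh X)` for a Noetherian scheme: top dimensional part of a class
-/

set_option autoImplicit false
set_option linter.style.haveILetI false
set_option backward.isDefEq.respectTransparency.types false
universe u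

open CategoryTheory CategoryTheory.Limits AlgebraicGeometry TopologicalSpace MonoidalCategory
open Groth.Agent.Coherent Groth.Agent.ModStalk
open scoped ZeroObject TensorProduct

namespace Groth.Agent.KTop28

variable {X : Scheme.{u}}

local notation "St" => DerSch.stalkFunctor X
local notation "KC" => KZero.K0sub (fun M : X.Modules => Coh.IsCoh M)
local notation "cl" => KZero.clSub (fun M : X.Modules => Coh.IsCoh M)

/-- Adding a generic point to a sober space raises the dimension. -/
theorem dim_add_one_le {α β : Type u} [TopologicalSpace α] [QuasiSober α] [T0Space α] [Nonempty α]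
    [TopologicalSpace β] [QuasiSober β] [T0Space β] (j : α → β) (hj : Topology.IsInducing j)
    (hinj : Function.Injective j) (g : β) (hg : ∀ a, g ⤳ j a) (hne : ∀ a, j a ≠ g) :
    topologicalKrullDim α + 1 ≤ topologicalKrullDim β := by
  classical
  letI : PartialOrder α := specializationOrder _
  letI : PartialOrder β := specializationOrder _
  rw [CommAlg6.topologicalKrullDim_eq_krullDim_points, CommAlg6.topologicalKrullDim_eq_krullDim_points (X := β),
    ← Order.krullDim_WithTop]
  refine Order.krullDim_le_of_strictMono (fun w : WithTop α => w.recTopCoe g j) fun a b hab => ?_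
  induction a using WithTop.recTopCoe with
  | top => exact absurd hab not_top_lt
  | coe a => induction b using WithTop.recTopCoe with
    | top => exact lt_of_le_of_ne (hg a) (hne a)
    | coe b =>
      have hlt := WithTop.coe_lt_coe.1 hab
      exact lt_of_le_of_ne (hj.specializes_iff.2 hlt.le) fun he => hlt.ne (hinj he)

/-- A proper specialisation lowers the dimension of the closure. -/
theorem dim_closure_add_one_le {y x : X} (h : y ⤳ x) (hne : y ≠ x) :
    topologicalKrullDim ↥(closure ({x} : Set X)) + 1 ≤ topologicalKrullDim ↥(closure ({y} : Set X)) := by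
  haveI : QuasiSober ↥(closure ({x} : Set X)) := isClosed_closure.isClosedEmbedding_subtypeVal.quasiSober
  haveI : QuasiSober ↥(closure ({y} : Set X)) := isClosed_closure.isClosedEmbedding_subtypeVal.quasiSober
  haveI : Nonempty ↥(closure ({x} : Set X)) := ⟨⟨x, subset_closure rfl⟩⟩
  have hsub : closure ({x} : Set X) ⊆ closure {y} :=
    isClosed_closure.closure_subset_iff.2 (Set.singleton_subset_iff.2 (specializes_iff_mem_closure.1 h))
  refine dim_add_one_le (Set.inclusion hsub) (Topology.IsEmbedding.inclusion hsub).isInducing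
    (Set.inclusion_injective hsub) ⟨y, subset_closure rfl⟩ (fun a => ?_) fun a he => hne ?_
  · exact Topology.IsInducing.subtypeVal.specializes_iff.1 (specializes_iff_mem_closure.2 (hsub a.2))
  · have he' : a.1 = y := congrArg Subtype.val he
    exact (h.antisymm (specializes_iff_mem_closure.2 (he' ▸ a.2))).eq

theorem dim_mono {S T : Set X} (h : S ⊆ T) : topologicalKrullDim ↥S ≤ topologicalKrullDim ↥T :=
  (Topology.IsEmbedding.inclusion h).isInducing.topologicalKrullDim_le

/-- Two points whose closures have the same finite dimension and which specialise are equal. -/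
theorem eq_of_specializes {y x : X} {n : ℕ} (h : y ⤳ x)
    (hx : topologicalKrullDim ↥(closure ({x} : Set X)) = n)
    (hy : topologicalKrullDim ↥(closure ({y} : Set X)) ≤ n) : y = x := by
  by_contra hne
  have h1 := (dim_closure_add_one_le h hne).trans hy
  rw [hx] at h1
  have h2 : n + 1 ≤ n := by exact_mod_cast h1
  omega

theorem dim_closure_le_of_mem_support [IsLocallyNoetherian X] {F : X.Modules} (hF : Coh.IsCoh F) {x : X}
    (hx : x ∈ CohB1.support F) :
    topologicalKrullDim ↥(closure ({x} : Set X)) ≤ topologicalKrullDim ↥(CohB1.support F) :=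
  dim_mono ((isClosed_support F (locallyFinGen_of_isFT F hF.2)).closure_subset_iff.2 (Set.singleton_subset_iff.2 hx))

/-! ### Classes -/

theorem cl_ses {S : ShortComplex X.Modules} (hS : S.ShortExact) (h₁ : Coh.IsCoh S.X₁) (h₂ : Coh.IsCoh S.X₂)
    (h₃ : Coh.IsCoh S.X₃) : cl S.X₂ = cl S.X₁ + cl S.X₃ := by
  rw [KZero.clSub, KZero.clSub, KZero.clSub, dif_pos h₁, dif_pos h₂, dif_pos h₃, ← QuotientAddGroup.mk_add,
    eq_comm, QuotientAddGroup.eq]
  refine AddSubgroup.subset_closure ⟨S, h₁, h₂, h₃, hS, ?_⟩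
  abel

theorem cl_isZero [IsLocallyNoetherian X] {F : X.Modules} (h : IsZero F) : cl F = 0 := by
  have hS : (ShortComplex.mk (𝟙 F) (0 : F ⟶ F) comp_zero).ShortExact :=
    { exact := (ShortComplex.exact_iff_epi _ rfl).2 (inferInstanceAs (Epi (𝟙 F)))
      mono_f := inferInstanceAs (Mono (𝟙 F))
      epi_g := ⟨fun _ _ _ => h.eq_of_src _ _⟩ }
  exact left_eq_add.1 (cl_ses hS (KZeroLib.isCoh_isZero h) (KZeroLib.isCoh_isZero h) (KZeroLib.isCoh_isZero h))

theorem cl_iso [IsLocallyNoetherian X] {F G : X.Modules} (e : F ≅ G) : cl F = cl G := by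
  by_cases hF : Coh.IsCoh F
  · have hz : IsZero (0 : X.Modules) := isZero_zero _
    have hS : (ShortComplex.mk e.hom (0 : G ⟶ (0 : X.Modules)) comp_zero).ShortExact :=
      { exact := (ShortComplex.exact_iff_epi _ rfl).2 (inferInstanceAs (Epi e.hom))
        mono_f := inferInstanceAs (Mono e.hom)
        epi_g := ⟨fun _ _ _ => hz.eq_of_src _ _⟩ }
    have h := cl_ses hS hF (isCoh_iso e hF) (KZeroLib.isCoh_isZero hz)
    rw [cl_isZero (F := (0 : X.Modules)) hz, add_zero] at h
    exact h.symm
  · have hG : ¬ Coh.IsCoh G := fun h => hF (isCoh_iso e.symm h)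
    rw [KZero.clSub, KZero.clSub, dif_neg hF, dif_neg hG]

/-! ### The sheaf of a point -/

theorem nontrivial_pointSheaf_self (ξ : X) : Nontrivial ((CycLib28.InterSheaf.pointSheaf ξ).presheaf.stalk ξ) := by
  haveI := CycLib28.isIntegral_ptIdeal ξ
  let ι := (IntMult.ptIdeal ξ).subschemeι
  obtain ⟨z, hz⟩ : ξ ∈ Set.range ι :=
    (IntMult.ptIdeal ξ).range_subschemeι.ge (CycLib28.mem_support_ptIdeal.2 specializes_rfl)
  suffices h : Nontrivial ((CycLib28.InterSheaf.pointSheaf ξ).presheaf.stalk (ι z)) by rwa [hz] at h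
  let T := CycLib28.pushStalkHom ι (Coh.structureModule (IntMult.ptIdeal ξ).subscheme) z
  haveI : IsIso T :=
    TopCat.Presheaf.stalkPushforward.stalkPushforward_iso_of_isInducing Ab.{u} ι.isClosedEmbedding.isInducing _ z
  haveI : Nontrivial ((Coh.structureModule (IntMult.ptIdeal ξ).subscheme).presheaf.stalk z) :=
    ⟨⟨(1 : (IntMult.ptIdeal ξ).subscheme.presheaf.stalk z) • AssSch12.unitOne z,
      (0 : (IntMult.ptIdeal ξ).subscheme.presheaf.stalk z) • AssSch12.unitOne z,
      fun h => one_ne_zero ((AssSch12.bijective_smul_unitOne z).1 h)⟩⟩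
  exact (ConcreteCategory.bijective_of_isIso T).2.nontrivial

theorem len_pointSheaf_self (ξ : X) : CycLib28.K0.len ξ (CycLib28.InterSheaf.pointSheaf ξ) = 1 := by
  obtain ⟨g, hg, -⟩ := CycLib28.K0.exists_toKap _ _ (CycLib28.K0.isGenAt_ptGerm (specializes_refl ξ))
    (nontrivial_pointSheaf_self ξ) 1 one_ne_zero
  rw [CycLib28.K0.len, (LinearEquiv.ofBijective g.hom hg).length_eq, Module.length_eq_one_iff]
  exact isSimpleModule_iff_quot_maximal.2
    ⟨_, IsLocalRing.maximalIdeal.isMaximal _, ⟨LinearEquiv.refl _ _⟩⟩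

theorem subsingleton_pointSheaf {y x : X} (h : ¬ y ⤳ x) :
    Subsingleton ((St x).obj (CycLib28.InterSheaf.pointSheaf y)) :=
  not_nontrivial_iff_subsingleton.1 fun hn => h (CycLib28.InterSheaf.specializes_of_nontrivial_pointSheaf y x hn)

/-! ### Dévissage -/

variable [IsNoetherian X]

/-- Dévissage to the sheaves of points. -/
theorem mem_of_points {K : X.Modules → Prop} (hK : DevClass K) (S : Set X)
    (hpt : ∀ y, closure ({y} : Set X) ⊆ S → K (CycLib28.InterSheaf.pointSheaf y))
    (F : X.Modules) (hF : Coh.IsCoh F) (hFS : CohB1.support F ⊆ S) : K F := by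
  let Z : Closeds X := ⟨CohB1.support F, isClosed_support F (locallyFinGen_of_isFT F hF.2)⟩
  refine mem_of_support hK.toExt S (fun Z₁ _ _ hZS y hy Z₀ hZ₀ hsm => ?_) Z hFS F hF le_rfl
  have hy' : closure ({y} : Set X) ⊆ S := hy ▸ hZS
  exact oneK_of_length_one hK hsm (CycLib28.K0.cohAt_pointSheaf y).1 (hpt y hy')
    ((CycLib28.K0.cohAt_pointSheaf y).2.trans (hy ▸ hZ₀)) (len_pointSheaf_self y)

theorem cl_mem_closure_points (F : X.Modules) (hF : Coh.IsCoh F) :
    cl F ∈ AddSubgroup.closure {c : KC | ∃ x ∈ CohB1.support F, c = cl (CycLib28.InterSheaf.pointSheaf x)} := by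
  refine mem_of_points
    (K := fun M => cl M ∈ AddSubgroup.closure {c : KC | ∃ x ∈ CohB1.support F, c = cl (CycLib28.InterSheaf.pointSheaf x)})
    ⟨fun e h => by rwa [← cl_iso e], fun M hM => by rw [cl_isZero hM]; exact zero_mem _,
      fun S hS h₁ h₂ h₃ => ?_⟩
    (CohB1.support F) (fun y hy => AddSubgroup.subset_closure ⟨y, hy (subset_closure rfl), rfl⟩) F hF subset_rfl
  have he := cl_ses hS h₁ h₂ h₃
  exact ⟨fun a b => (add_mem_cancel_left a).1 (he ▸ b), fun a b => he.symm ▸ add_mem a b,
    fun a b => (add_mem_cancel_right b).1 (he ▸ a)⟩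

variable (X) in
/-- Classes of coherent modules with support of dimension `< n`. -/
noncomputable abbrev lower (n : ℕ) : AddSubgroup KC :=
  AddSubgroup.closure {c : KC |
    ∃ G : X.Modules, Coh.IsCoh G ∧ topologicalKrullDim ↥(CohB1.support G) < n ∧ c = cl G}

/-- The points of top dimension of a set are finite. -/
theorem finite_top {F : X.Modules} (hF : Coh.IsCoh F) {n : ℕ}
    (hsupp : topologicalKrullDim ↥(CohB1.support F) ≤ n) :
    {x ∈ CohB1.support F | topologicalKrullDim ↥(closure ({x} : Set X)) = n}.Finite := by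
  classical
  let Z : Closeds X := ⟨CohB1.support F, isClosed_support F (locallyFinGen_of_isFT F hF.2)⟩
  obtain ⟨S, hS, hirr, hZ⟩ := NoetherianSpace.exists_finite_set_closeds_irreducible Z
  refine (hS.biUnion (t := fun T => if h : IsIrreducible (T : Set X) then {h.genericPoint} else ∅)
    fun T _ => by split_ifs <;> simp).subset ?_
  rintro x ⟨hx, hxn⟩
  have hcl : IsClosed (⋃ T ∈ S, (T : Set X)) := hS.isClosed_biUnion fun T _ => T.2
  have hle : Z ≤ (⟨_, hcl⟩ : Closeds X) :=
    hZ ▸ sSup_le fun T hT z hz => Set.mem_iUnion₂.2 ⟨T, hT, hz⟩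
  obtain ⟨T, hT, hxT⟩ := Set.mem_iUnion₂.1 (hle hx)
  have hi := hirr T hT
  refine Set.mem_biUnion hT ?_
  rw [dif_pos hi, Set.mem_singleton_iff]
  have hg := hi.closure_genericPoint T.2
  refine (eq_of_specializes (specializes_iff_mem_closure.2 (hg.ge hxT)) hxn ?_).symm
  exact (dim_closure_le_of_mem_support hF ((hZ ▸ le_sSup hT : T ≤ Z) (hg.le (subset_closure rfl)))).trans hsupp

/-- the top dimensional cycle of a module at the points of `T` -/
noncomputable def topPart (T : Finset X) (M : X.Modules) : KC :=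
  ∑ x ∈ T, (CycLib28.K0.len x M).toNat • cl (CycLib28.InterSheaf.pointSheaf x)

/-- The class of a module is its top cycle up to lower dimension. -/
theorem cl_sub_topPart_mem {n : ℕ} (S : Set X) (hSc : IsClosed S)
    (hS : topologicalKrullDim ↥S ≤ n) (T : Finset X)
    (hT : ∀ x, x ∈ T ↔ x ∈ S ∧ topologicalKrullDim ↥(closure ({x} : Set X)) = n)
    (F : X.Modules) (hF : Coh.IsCoh F) (hFS : CohB1.support F ⊆ S) :
    cl F - topPart T F ∈ lower X n := by
  classical
  suffices h : (∀ x ∈ T, CycLib28.K0.len x F ≠ ⊤) ∧ cl F - topPart T F ∈ lower X n from h.2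
  refine mem_of_points (K := fun M => (∀ x ∈ T, CycLib28.K0.len x M ≠ ⊤) ∧ cl M - topPart T M ∈ lower X n)
    ⟨?_, ?_, ?_⟩ S ?_ F hF hFS
  · rintro M N e ⟨h1, h2⟩
    have hl : ∀ x, CycLib28.K0.len x M = CycLib28.K0.len x N := fun x =>
      CycLib28.K0.len_congr e.hom (ConcreteCategory.bijective_of_isIso ((St x).map e.hom))
    refine ⟨fun x hx => hl x ▸ h1 x hx, ?_⟩
    have : topPart T N = topPart T M := by simp only [topPart, hl]
    rwa [this, ← cl_iso e]
  · intro M hM
    have hl : ∀ x, CycLib28.K0.len x M = 0 := fun x => by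
      haveI := ModuleCat.subsingleton_of_isZero ((St x).map_isZero hM)
      exact Module.length_eq_zero_iff.2 inferInstance
    refine ⟨fun x _ => by rw [hl]; exact ENat.zero_ne_top, ?_⟩
    simp [topPart, hl, cl_isZero hM]
  · intro S' hS' h₁ h₂ h₃
    have hadd : ∀ x, CycLib28.K0.len x S'.X₂ = CycLib28.K0.len x S'.X₁ + CycLib28.K0.len x S'.X₃ :=
      fun x => CycLib28.K0.len_add hS'
    have he : ∀ (_ : ∀ x ∈ T, CycLib28.K0.len x S'.X₁ ≠ ⊤) (_ : ∀ x ∈ T, CycLib28.K0.len x S'.X₃ ≠ ⊤),
        cl S'.X₂ - topPart T S'.X₂ = (cl S'.X₁ - topPart T S'.X₁) + (cl S'.X₃ - topPart T S'.X₃) := fun a b => by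
      have : topPart T S'.X₂ = topPart T S'.X₁ + topPart T S'.X₃ := by
        simp only [topPart]
        rw [← Finset.sum_add_distrib]
        refine Finset.sum_congr rfl fun x hx => ?_
        rw [← add_nsmul, hadd, ENat.toNat_add (a x hx) (b x hx)]
      rw [cl_ses hS' h₁ h₂ h₃, this]
      abel
    refine ⟨fun a b => ?_, fun a b => ?_, fun a b => ?_⟩
    · have hb : ∀ x ∈ T, CycLib28.K0.len x S'.X₃ ≠ ⊤ := fun x hx h =>
        b.1 x hx (by rw [hadd, h, add_top])
      exact ⟨hb, (add_mem_cancel_left a.2).1 (he a.1 hb ▸ b.2)⟩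
    · exact ⟨fun x hx => by rw [hadd]; exact WithTop.add_ne_top.2 ⟨a.1 x hx, b.1 x hx⟩,
        (he a.1 b.1).symm ▸ add_mem a.2 b.2⟩
    · have ha : ∀ x ∈ T, CycLib28.K0.len x S'.X₁ ≠ ⊤ := fun x hx h =>
        a.1 x hx (by rw [hadd, h, top_add])
      exact ⟨ha, (add_mem_cancel_right b.2).1 (he ha b.1 ▸ a.2)⟩
  · intro y hy
    have hyn : topologicalKrullDim ↥(closure ({y} : Set X)) ≤ n := (dim_mono hy).trans hS
    have hl : ∀ x ∈ T, x ≠ y → CycLib28.K0.len x (CycLib28.InterSheaf.pointSheaf y) = 0 := fun x hx hne => by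
      haveI := subsingleton_pointSheaf (y := y) (x := x) fun h =>
        hne (eq_of_specializes h ((hT x).1 hx).2 hyn).symm
      exact Module.length_eq_zero_iff.2 inferInstance
    refine ⟨fun x hx => ?_, ?_⟩
    · rcases eq_or_ne x y with rfl | hne
      · rw [len_pointSheaf_self]; exact ENat.natCast_ne_top 1
      · rw [hl x hx hne]; exact ENat.zero_ne_top
    by_cases hyT : y ∈ T
    · have : topPart T (CycLib28.InterSheaf.pointSheaf y) = cl (CycLib28.InterSheaf.pointSheaf y) := by
        rw [topPart, Finset.sum_eq_single_of_mem y hyT fun x hx hne => by rw [hl x hx hne]; simp,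
          len_pointSheaf_self]
        simp
      rw [this, sub_self]
      exact zero_mem _
    · have : topPart T (CycLib28.InterSheaf.pointSheaf y) = 0 :=
        Finset.sum_eq_zero fun x hx => by
          rw [hl x hx fun h => hyT (h ▸ hx)]; simp
      rw [this, sub_zero]
      refine AddSubgroup.subset_closure ⟨_, (CycLib28.K0.cohAt_pointSheaf y).1, ?_, rfl⟩
      refine lt_of_le_of_lt (dim_mono (CycLib28.K0.cohAt_pointSheaf y).2) (lt_of_le_of_ne hyn fun h => hyT ?_)
      exact (hT y).2 ⟨hy (subset_closure rfl), h⟩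

theorem support_tensorMod_subset (E F : X.Modules) :
    CohB1.support (CohB1.tensorMod E F) ⊆ CohB1.support F := fun x hx => by
  by_contra h
  haveI : Subsingleton ((St x).obj F) := not_not.1 h
  refine hx ?_
  haveI : Subsingleton (((St x).obj E) ⊗[X.presheaf.stalk x] ((St x).obj F)) :=
    subsingleton_of_forall_eq 0 fun w => by
      induction w using TensorProduct.induction_on with
      | zero => rfl
      | tmul a b => rw [Subsingleton.elim b 0, TensorProduct.tmul_zero]
      | add a b ha hb => rw [ha, hb, add_zero]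
  exact (stalkTensorIso x E F).toLinearEquiv.toEquiv.subsingleton

theorem len_tensorMod {e : ℕ} {E : X.Modules} (hE : FlatMod.IsFinLocFreeOfRank e E) (F : X.Modules) (x : X) :
    CycLib28.K0.len x (CohB1.tensorMod E F) = e * CycLib28.K0.len x F := by
  haveI := LocFreeLib.isQCoh_of_isFinLocFreeOfRank hE
  haveI : Module.Free (X.presheaf.stalk x) ((St x).obj E) := Props12.free_stalk_of_isFinLocFree E
    (fun y => by obtain ⟨U, hy, i⟩ := hE y; exact ⟨U, e, hy, i⟩) x
  haveI : Module.Finite (X.presheaf.stalk x) ((St x).obj E) :=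
    AssSch12.finite_stalk (Coherent.CohBC.isCoh_of_isFinLocFree
      fun y => by obtain ⟨U, hy, i⟩ := hE y; exact ⟨U, e, hy, i⟩) x
  let b := Module.finBasisOfFinrankEq (X.presheaf.stalk x) ((St x).obj E) (VarietyLib.finrank_stalk_of_rank hE x)
  have e1 : ((St x).obj (CohB1.tensorMod E F)) ≃ₗ[X.presheaf.stalk x] (Fin e → (St x).obj F) :=
    ((stalkTensorIso x E F).toLinearEquiv.trans
      ((TensorProduct.congr b.equivFun (LinearEquiv.refl _ _)).trans (TensorProduct.comm _ _ _))).trans
      (TensorProduct.piScalarRight _ _ _ _)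
  rw [CycLib28.K0.len, e1.length_eq, Module.length_pi]
  simp [CycLib28.K0.len]

end Groth.Agent.KTop28
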